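import Groth.Agent.S0555
import Groth.Agent.Lib.Hensel.FormallyCatenary
import Groth.Agent.Lib.Hensel.RegularTransfer
import Groth.Agent.Lib.Hensel.Catenary
import Groth.Agent.Lib.Altitude.Scheme
import Groth.Agent.Lib.FlatOff.InfinitesimalMain

/-!
# Dimensions of the branches of an ind-étale local algebra
-/

set_option autoImplicit false
set_option backward.isDefEq.respectTransparency false
set_option linter.style.haveILetI false
set_option linter.all false

universe u

open IsLocalRing

namespace GrothLib.DimSH18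

open GrothLib.Hensel

variable {A R : Type u} [CommRing A] [CommRing R] [Algebra A R]

theorem isAlgebraic_quotient (hS : EtaleStages A R) (P : Ideal R) [P.IsPrime] (p : Ideal A) [p.IsPrime]
    [P.LiesOver p] : Algebra.IsAlgebraic (A ⧸ p) (R ⧸ P) := by
  letI : Algebra p.ResidueField P.ResidueField :=
    (Ideal.ResidueField.mapₐ p P (Algebra.ofId A R) (P.over_def p)).toRingHom.toAlgebra
  haveI : IsScalarTower A p.ResidueField P.ResidueField := IsScalarTower.of_algebraMap_eq fun a =>
    ((Ideal.ResidueField.mapₐ p P (Algebra.ofId A R) (P.over_def p)).commutes a).symm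
  haveI := hS.isSeparable_residueField p P
  haveI hal : Algebra.IsAlgebraic p.ResidueField P.ResidueField := Algebra.IsSeparable.isAlgebraic _ _
  letI : Algebra (A ⧸ p) P.ResidueField :=
    ((algebraMap p.ResidueField P.ResidueField).comp (algebraMap (A ⧸ p) p.ResidueField)).toAlgebra
  haveI : IsScalarTower (A ⧸ p) p.ResidueField P.ResidueField := IsScalarTower.of_algebraMap_eq fun a => rfl
  haveI : IsScalarTower (A ⧸ p) (R ⧸ P) P.ResidueField := IsScalarTower.of_algebraMap_eq fun a => by
    obtain ⟨a, rfl⟩ := Ideal.Quotient.mk_surjective a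
    exact ((IsScalarTower.algebraMap_apply A p.ResidueField P.ResidueField a).symm.trans
      (IsScalarTower.algebraMap_apply A R P.ResidueField a))
  refine ⟨fun x => (isAlgebraic_algebraMap_iff (A := P.ResidueField)
    (IsFractionRing.injective (R ⧸ P) P.ResidueField)).1 ?_⟩
  exact (IsFractionRing.isAlgebraic_iff (A ⧸ p) p.ResidueField P.ResidueField).2
    (hal.isAlgebraic _)

variable [IsLocalRing A] [IsLocalRing R] [IsNoetherianRing A] [IsNoetherianRing R] [IsLocalHom (algebraMap A R)]
  [Module.Flat A R]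

set_option maxHeartbeats 1000000 in
theorem ringKrullDim_quotient_eq (hS : EtaleStages A R) (hA : CAlg.IsUniversallyCatenary A)
    (q : Ideal R) [q.IsPrime] (p : Ideal A) [p.IsPrime] [q.LiesOver p] :
    ringKrullDim (R ⧸ q) = ringKrullDim (A ⧸ p) := by
  classical
  refine le_antisymm ?_ ?_
  · let g : PrimeSpectrum (R ⧸ q) → PrimeSpectrum (A ⧸ p) := PrimeSpectrum.comap (algebraMap (A ⧸ p) (R ⧸ q))
    refine Order.krullDim_le_of_strictMono g fun a b hab => lt_of_le_of_ne (Ideal.comap_mono hab.le) fun h => hab.ne ?_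
    let π := Ideal.Quotient.mk q
    haveI := a.2
    haveI := b.2
    have hu : ∀ c : PrimeSpectrum (R ⧸ q), (c.asIdeal.comap π).under A = ((g c).asIdeal).comap (Ideal.Quotient.mk p) := by
      intro c
      ext x
      rfl
    have he : (a.asIdeal.comap π).under A = (b.asIdeal.comap π).under A := by rw [hu, hu, h]
    refine PrimeSpectrum.ext (Ideal.comap_injective_of_surjective π Ideal.Quotient.mk_surjective ?_)
    exact le_antisymm (Ideal.comap_mono hab.le) ((hS.mem_minimalPrimes_map (b.asIdeal.comap π)).2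
      ⟨inferInstance, Ideal.map_le_iff_le_comap.2 he.ge⟩ (Ideal.comap_mono hab.le))
  obtain ⟨T, hT⟩ := IsNoetherian.noetherian q
  obtain ⟨N, _, _, _, φ, hφ⟩ := hS T
  letI : Algebra N R := φ.toRingHom.toAlgebra
  haveI : IsScalarTower A N R := IsScalarTower.of_algebraMap_eq fun r => (φ.commutes r).symm
  haveI : Module.Flat N R := Algebra.FormallyUnramified.flat_of_restrictScalars A N R
  haveI : Algebra.FiniteType A N := inferInstance
  let qN : Ideal N := q.comap (algebraMap N R)
  let nN : Ideal N := (maximalIdeal R).comap (algebraMap N R)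
  haveI : qN.IsPrime := Ideal.IsPrime.comap _
  haveI : nN.IsPrime := Ideal.IsPrime.comap _
  have hJ : qN.map (algebraMap N R) = q := by
    refine le_antisymm Ideal.map_comap_le ?_
    conv_lhs => rw [← hT]
    rw [Submodule.span_le]
    intro x hx
    obtain ⟨y, rfl⟩ := hφ x hx
    exact Ideal.mem_map_of_mem _ (show y ∈ qN from (hT ▸ Submodule.subset_span hx : φ y ∈ q))
  haveI hqp : qN.LiesOver p := ⟨by
    rw [q.over_def p]; ext x
    show algebraMap A R x ∈ q ↔ algebraMap N R (algebraMap A N x) ∈ q
    rw [← IsScalarTower.algebraMap_apply]⟩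
  have hNst : EtaleStages A N := fun s => ⟨N, inferInstance, inferInstance, inferInstance, AlgHom.id A N, fun x _ => ⟨x, rfl⟩⟩
  haveI : IsLocalRing (A ⧸ p) := IsLocalRing.of_surjective' (Ideal.Quotient.mk p) Ideal.Quotient.mk_surjective
  haveI : IsLocalHom (Ideal.Quotient.mk p) := IsLocalHom.of_surjective _ Ideal.Quotient.mk_surjective
  let A0 := A ⧸ p
  let D := N ⧸ qN
  haveI : Algebra.FiniteType A0 D := Algebra.FiniteType.of_restrictScalars_finiteType A A0 D
  haveI : Algebra.IsAlgebraic A0 D := isAlgebraic_quotient hNst qN p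
  let nb : Ideal D := nN.map (Ideal.Quotient.mk qN)
  have hqn : qN ≤ nN := Ideal.comap_mono (le_maximalIdeal Ideal.IsPrime.ne_top')
  have hnb : nb.comap (Ideal.Quotient.mk qN) = nN := by
    rw [Ideal.comap_map_of_surjective' _ Ideal.Quotient.mk_surjective, Ideal.mk_ker, sup_eq_left.2 hqn]
  haveI : nb.IsPrime := Ideal.map_isPrime_of_surjective Ideal.Quotient.mk_surjective (by rwa [Ideal.mk_ker])
  haveI : nN.LiesOver (maximalIdeal A) := ⟨by
    ext x
    show x ∈ maximalIdeal A ↔ algebraMap N R (algebraMap A N x) ∈ maximalIdeal R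
    rw [← IsScalarTower.algebraMap_apply, mem_maximalIdeal, mem_maximalIdeal, mem_nonunits_iff, mem_nonunits_iff,
      isUnit_map_iff]⟩
  haveI : nb.LiesOver (maximalIdeal A0) := ⟨by
    refine Ideal.comap_injective_of_surjective (Ideal.Quotient.mk p) Ideal.Quotient.mk_surjective ?_
    rw [IsLocalRing.maximalIdeal_comap]
    ext x
    show x ∈ maximalIdeal A ↔ algebraMap A N x ∈ nb.comap (Ideal.Quotient.mk qN)
    rw [hnb, (nN.over_def (maximalIdeal A))]
    rfl⟩
  have hUC : CAlg.IsUniversallyCatenary A0 :=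
    GrothLib.Altitude.isUniversallyCatenary_of_surjective (Ideal.Quotient.mk p) Ideal.Quotient.mk_surjective hA
  have e := Groth.Agent.S0555.result A0 hUC D (maximalIdeal A0) nb
  haveI : Algebra.IsAlgebraic (A0 ⧸ maximalIdeal A0) (D ⧸ nb) := by
    haveI := isAlgebraic_quotient hNst nN (maximalIdeal A)
    let f : A ⧸ maximalIdeal A →+* A0 ⧸ maximalIdeal A0 :=
      Ideal.quotientMap (maximalIdeal A0) (Ideal.Quotient.mk p) (IsLocalRing.maximalIdeal_comap (Ideal.Quotient.mk p)).ge
    let g : N ⧸ nN →+* D ⧸ nb := Ideal.quotientMap nb (Ideal.Quotient.mk qN) hnb.ge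
    refine ⟨fun y => ?_⟩
    obtain ⟨x, rfl⟩ := Ideal.quotientMap_surjective (J := nN) (H := hnb.ge) Ideal.Quotient.mk_surjective y
    refine IsAlgebraic.ringHom_of_comp_eq f g (Algebra.IsAlgebraic.isAlgebraic (R := A ⧸ maximalIdeal A) x)
      (Ideal.quotientMap_injective' (IsLocalRing.maximalIdeal_comap (Ideal.Quotient.mk p)).le) ?_
    refine Ideal.Quotient.ringHom_ext (RingHom.ext fun z => ?_)
    rfl
  rw [trdeg_eq_zero, trdeg_eq_zero, add_zero, add_zero] at e
  have hh : (maximalIdeal A0).height = nb.height := by exact_mod_cast e.symm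
  rw [← IsLocalRing.maximalIdeal_height_eq_ringKrullDim, hh]
  haveI hJp : (qN.map (algebraMap N R)).IsPrime := hJ.symm ▸ ‹q.IsPrime›
  rw [← ringKrullDim_eq_of_ringEquiv (Ideal.quotEquivOfEq hJ)]
  let C := R ⧸ qN.map (algebraMap N R)
  haveI : IsLocalRing C := IsLocalRing.of_surjective' (Ideal.Quotient.mk _) Ideal.Quotient.mk_surjective
  haveI : IsLocalHom (Ideal.Quotient.mk (qN.map (algebraMap N R))) := IsLocalHom.of_surjective _ Ideal.Quotient.mk_surjective
  haveI : Module.Flat D C := GrothLib.FlatOff.flat_quot_map N R qN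
  haveI : (maximalIdeal C).LiesOver nb := ⟨by
    refine Ideal.comap_injective_of_surjective (Ideal.Quotient.mk qN) Ideal.Quotient.mk_surjective ?_
    rw [hnb]
    ext x
    show algebraMap N R x ∈ maximalIdeal R ↔ algebraMap N R x ∈ (maximalIdeal C).comap (Ideal.Quotient.mk _)
    rw [IsLocalRing.maximalIdeal_comap]⟩
  rw [← IsLocalRing.maximalIdeal_height_eq_ringKrullDim, WithBot.coe_le_coe]
  haveI : IsNoetherianRing D := Algebra.FiniteType.isNoetherianRing A0 D
  rw [Ideal.height_eq_height_add_of_liesOver_of_hasGoingDown nb (maximalIdeal C)]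
  exact le_self_add

end GrothLib.DimSH18
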