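import Groth.Agent.Lib.DimSH18.Ring
import Groth.Agent.Lib.AffDom.PointDim
import Groth.Agent.Lib.CatCM.Basic
import Groth.Agent.Lib.CatBasics.Basic
import Groth.Agent.S0539
import Groth.Agent.S0540
import Groth.Prelude.Def_Hens2

/-!
# Dimension of points over a strict localization
-/

set_option autoImplicit false
set_option backward.isDefEq.respectTransparency false
set_option backward.isDefEq.respectTransparency.types false
set_option linter.style.haveILetI false
set_option linter.all false

universe u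

open CategoryTheory CategoryTheory.Limits AlgebraicGeometry Opposite IsLocalRing
open GrothLib.AffDom

noncomputable section

namespace GrothLib.DimSH18

theorem residueFieldMap_isIntegral {X Y : Scheme.{u}} (g : X ⟶ Y) [IsIntegralHom g] (z : X) :
    (g.residueFieldMap z).hom.IsIntegral := by
  obtain ⟨V, hV, hzV, -⟩ := exists_isAffineOpen_mem_and_subset (x := g z) (U := ⊤) trivial
  have hW : IsAffineOpen (g ⁻¹ᵁ V) := hV.preimage g
  have hint : (g.app V).hom.IsIntegral := IsIntegralHom.isIntegral_app g V hV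
  letI := (g.residueFieldMap z).hom.toAlgebra
  let e := (X.evaluation (g ⁻¹ᵁ V) z hzV).hom
  have he : ∀ a, IsIntegral (Y.residueField (g z)) (e a) := fun a => by
    obtain ⟨p, hp, hpa⟩ := hint a
    refine ⟨p.map (Y.evaluation V (g z) hzV).hom, hp.map _, ?_⟩
    have := congrArg e hpa
    rw [Polynomial.hom_eval₂, map_zero] at this
    rw [Polynomial.eval₂_map]
    exact (congrArg (fun φ => p.eval₂ φ (e a))
      (congrArg CommRingCat.Hom.hom (Scheme.evaluation_naturality g z hzV))).trans this
  letI := X.presheaf.algebra_section_stalk (⟨z, hzV⟩ : (g ⁻¹ᵁ V : X.Opens))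
  haveI : IsLocalization.AtPrime (X.presheaf.stalk z) (hW.primeIdealOf ⟨z, hzV⟩).asIdeal :=
    hW.isLocalization_stalk ⟨z, hzV⟩
  intro y
  obtain ⟨t, rfl⟩ := X.residue_surjective z y
  obtain ⟨⟨a, s⟩, hts⟩ := IsLocalization.surj (hW.primeIdealOf ⟨z, hzV⟩).asIdeal.primeCompl t
  have hunit : IsUnit (e s.1) :=
    (IsLocalization.map_units (X.presheaf.stalk z) s).map (X.residue z).hom
  have h1 : X.residue z t * e s.1 = e a := by
    have := congrArg (X.residue z).hom hts
    rw [map_mul] at this
    exact this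
  rw [show X.residue z t = e a * (e s.1)⁻¹ from (eq_mul_inv_iff_mul_eq₀ hunit.ne_zero).2 h1]
  exact (he a).mul (he s.1).inv

variable {k : Type u} [Field k]

theorem ptTrdeg_comp {X Y : Scheme.{u}} (g : X ⟶ Y) (q : Y ⟶ Spec (CommRingCat.of k)) (z : X) :
    ptTrdeg (g ≫ q) z = ptTrdeg q (g z) +
      (letI := (g.residueFieldMap z).hom.toAlgebra
       Algebra.trdeg (Y.residueField (g z)) (X.residueField z)) := by
  letI := (g.residueFieldMap z).hom.toAlgebra
  letI := (toRes q (g z)).toAlgebra
  letI := (toRes (g ≫ q) z).toAlgebra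
  haveI : IsScalarTower k (Y.residueField (g z)) (X.residueField z) :=
    IsScalarTower.of_algebraMap_eq' (toRes_comp g q z)
  exact (trdeg_add_eq k (Y.residueField (g z) : Type u) (A := (X.residueField z : Type u))).symm

theorem ptTrdeg_comp_integral {X Y : Scheme.{u}} (g : X ⟶ Y) [IsIntegralHom g]
    (q : Y ⟶ Spec (CommRingCat.of k)) (z : X) : ptTrdeg (g ≫ q) z = ptTrdeg q (g z) := by
  rw [ptTrdeg_comp]
  letI := (g.residueFieldMap z).hom.toAlgebra
  haveI : Algebra.IsIntegral (Y.residueField (g z) : Type u) (X.residueField z : Type u) :=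
    ⟨residueFieldMap_isIntegral g z⟩
  rw [trdeg_eq_zero (R := (Y.residueField (g z) : Type u)) (A := (X.residueField z : Type u)), add_zero]

theorem ptTrdeg_congr {X : Scheme.{u}} {f g : X ⟶ Spec (CommRingCat.of k)} (h : f = g) {x y : X} (e : x = y) :
    ptTrdeg f x = ptTrdeg g y := by subst h; subst e; rfl

theorem isPreimmersion_residueField (A : Type u) [CommRing A] (p : Ideal A) [p.IsPrime] :
    IsPreimmersion (Spec.map (CommRingCat.ofHom (algebraMap A p.ResidueField))) := by
  let x : ↥(Spec (CommRingCat.of A)) := (⟨p, inferInstance⟩ : PrimeSpectrum A)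
  have h := Scheme.Spec.map_residueFieldIso_inv_eq_fromSpecResidueField (R := CommRingCat.of A) (x := x)
  haveI : IsPreimmersion (Spec.map (Scheme.Spec.residueFieldIso (CommRingCat.of A) x).inv ≫
      Spec.map (CommRingCat.ofHom (algebraMap A p.ResidueField))) := by
    erw [h]; infer_instance
  exact (MorphismProperty.cancel_left_of_respectsIso @IsPreimmersion
    (Spec.map (Scheme.Spec.residueFieldIso (CommRingCat.of A) x).inv) _).1 this

theorem isUniversallyCatenary_field (K : Type u) [Field K] : CAlg.IsUniversallyCatenary K :=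
  GrothLib.CatCM.isUniversallyCatenary_of_isRegularRing K

theorem isUniversallyCatenary_stalk {Y : Scheme.{u}} (aY : Y ⟶ Spec (CommRingCat.of k)) [LocallyOfFiniteType aY]
    (y : Y) : CAlg.IsUniversallyCatenary (Y.presheaf.stalk y : Type u) := by
  obtain ⟨W, hW, hyW, -⟩ := exists_isAffineOpen_mem_and_subset (x := y) (U := ⊤) trivial
  obtain ⟨ψ, hψ, -⟩ := GrothLib.Dim.exists_finiteType_specMap aY hW
  letI := ψ.hom.toAlgebra
  haveI : Algebra.FiniteType k Γ(Y, W) := hψ
  letI := TopCat.Presheaf.algebra_section_stalk Y.presheaf ⟨y, hyW⟩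
  haveI := hW.isLocalization_stalk ⟨y, hyW⟩
  exact GrothLib.Excellent.isUniversallyCatenary_localization (hW.primeIdealOf ⟨y, hyW⟩).asIdeal.primeCompl
    (GrothLib.CatBasics.isUniversallyCatenary_of_finiteType (isUniversallyCatenary_field k))

theorem ptTrdeg_eq_trdeg {Y : Scheme.{u}} (aY : Y ⟶ Spec (CommRingCat.of k)) (y : Y) :
    ptTrdeg aY y = (letI := (aY.residueFieldMap y).hom.toAlgebra
      Algebra.trdeg ((Spec (CommRingCat.of k)).residueField (aY y)) (Y.residueField y)) := by
  have h := ptTrdeg_comp aY (𝟙 (Spec (CommRingCat.of k))) y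
  rw [Category.comp_id] at h
  obtain ⟨n, hn, hn'⟩ := exists_dim_closure (𝟙 (Spec (CommRingCat.of k))) (aY y)
  have h0 : topologicalKrullDim ↥(Spec (CommRingCat.of k)) ≤ 0 := by
    refine ((PrimeSpectrum.topologicalKrullDim_eq_ringKrullDim k).trans_le ?_)
    rw [ringKrullDim_eq_zero_of_field]
  have : n = 0 := by
    have := (topologicalKrullDim_subspace_le _ (closure {aY y})).trans h0
    rw [hn] at this
    exact Nat.le_zero.1 (by exact_mod_cast this)
  subst this
  rw [h, hn', Nat.cast_zero, zero_add]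

theorem dim_locQuot_point {x η : ↥(Spec (CommRingCat.of k))} (h : η ⤳ x) :
    ringKrullDim (Cyc.LocQuot (X := Spec (CommRingCat.of k)) x η h) ≤ 0 ∧
      CAlg.IsUniversallyCatenary ((Spec (CommRingCat.of k)).presheaf.stalk x : Type u) := by
  let L := Localization.AtPrime (PrimeSpectrum.asIdeal (R := k) x)
  have hL : Function.Bijective (algebraMap k L) :=
    Field.localization_map_bijective (M := (PrimeSpectrum.asIdeal (R := k) x).primeCompl)
      (fun h0 => h0 (Ideal.zero_mem _))
  let e : (Spec (CommRingCat.of k)).presheaf.stalk x ≃+* k :=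
    (Spec.stalkIso (CommRingCat.of k) x).commRingCatIsoToRingEquiv.trans (RingEquiv.ofBijective _ hL).symm
  refine ⟨(ringKrullDim_quotient_le _).trans ?_, ?_⟩
  · rw [ringKrullDim_eq_of_ringEquiv e, ringKrullDim_eq_zero_of_field]
  · exact GrothLib.Altitude.isUniversallyCatenary_of_surjective e.symm.toRingHom e.symm.surjective
      (isUniversallyCatenary_field k)

set_option maxHeartbeats 2000000 in
theorem delta_eq {X Y : Scheme.{u}} (aY : Y ⟶ Spec (CommRingCat.of k)) [LocallyOfFiniteType aY]
    (f : X ⟶ Y) [LocallyOfFiniteType (f ≫ aY)] (y₀ : Y)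
    (R : Type u) [CommRing R] [IsLocalRing R] [Algebra (Y.presheaf.stalk y₀) R]
    [IsLocalHom (algebraMap (Y.presheaf.stalk y₀) R)] [Hensel.IsStrictHenselization (Y.presheaf.stalk y₀) R]
    (x' : ↥(pullback f (Hens2.specOf Y y₀ R))) (a b dx dy : ℕ)
    (ha : ringKrullDim (R ⧸ ((pullback.snd f (Hens2.specOf Y y₀ R)).base x').asIdeal) = a)
    (hb : letI := ((pullback.snd f (Hens2.specOf Y y₀ R)).residueFieldMap x').hom.toAlgebra;
      Algebra.trdeg ((Spec (CommRingCat.of R)).residueField ((pullback.snd f (Hens2.specOf Y y₀ R)).base x'))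
        ((pullback f (Hens2.specOf Y y₀ R)).residueField x') = b)
    (hdx : topologicalKrullDim ↥(closure ({(pullback.fst f (Hens2.specOf Y y₀ R)).base x'} : Set X)) = dx)
    (hdy : topologicalKrullDim ↥(closure ({y₀} : Set Y)) = dy) :
    a + b + dy = dx := by
  let A : Type u := (Y.presheaf.stalk y₀ : Type u)
  let g := Hens2.specOf Y y₀ R
  let pX := pullback.fst f g
  let pR := pullback.snd f g
  let x := pX x'
  haveI : IsLocallyNoetherian Y := LocallyOfFiniteType.isLocallyNoetherian aY
  haveI : IsNoetherianRing A := inferInstanceAs (IsNoetherianRing (Y.presheaf.stalk y₀))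
  haveI : IsNoetherianRing R := (Groth.Agent.S0540.result A R).1 inferInstance
  haveI : Module.FaithfullyFlat A R := Groth.Agent.S0539.result A R
  let Q : PrimeSpectrum R := pR x'
  let q : Ideal R := Q.asIdeal
  let p : Ideal A := q.comap (algebraMap A R)
  haveI : p.IsPrime := Ideal.IsPrime.comap _
  haveI : q.LiesOver p := ⟨rfl⟩
  -- the points of the residue fields
  let jp := Spec.map (CommRingCat.ofHom (algebraMap A p.ResidueField))
  let ι := Spec.map (CommRingCat.ofHom (algebraMap R q.ResidueField))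
  haveI : IsPreimmersion jp := isPreimmersion_residueField A p
  haveI : IsPreimmersion ι := isPreimmersion_residueField R q
  let mq := Ideal.ResidueField.mapₐ p q (Algebra.ofId A R) rfl
  letI : Algebra p.ResidueField q.ResidueField := mq.toRingHom.toAlgebra
  haveI : IsScalarTower A p.ResidueField q.ResidueField :=
    IsScalarTower.of_algebraMap_eq fun c => (mq.commutes c).symm
  haveI := GrothLib.Hensel.IsStrictHenselization.etaleStages.isSeparable_residueField (S := R) p q
  haveI : Algebra.IsAlgebraic p.ResidueField q.ResidueField := Algebra.IsSeparable.isAlgebraic _ _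
  let ι₂ := Spec.map (CommRingCat.ofHom (algebraMap p.ResidueField q.ResidueField))
  haveI : IsIntegralHom ι₂ := (IsIntegralHom.SpecMap_iff).2 (Algebra.IsIntegral.isIntegral (R := p.ResidueField))
  let u := jp ≫ Y.fromSpecStalk y₀
  haveI : IsPreimmersion u := inferInstance
  have hfac : ι ≫ g = ι₂ ≫ u := by
    change Spec.map _ ≫ Spec.map _ ≫ _ = Spec.map _ ≫ Spec.map _ ≫ _
    rw [← Category.assoc, ← Category.assoc, ← Spec.map_comp, ← Spec.map_comp, ← CommRingCat.ofHom_comp,
      ← CommRingCat.ofHom_comp, ← IsScalarTower.algebraMap_eq, ← IsScalarTower.algebraMap_eq]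
  let z₀ : ↥(Spec (CommRingCat.of q.ResidueField)) := default
  have hz₀ : ι z₀ = pR x' := by
    refine PrimeSpectrum.ext ?_
    change Ideal.comap (algebraMap R q.ResidueField) _ = q
    rw [Ideal.eq_bot_of_prime (PrimeSpectrum.asIdeal (R := q.ResidueField) z₀)]
    exact Ideal.ker_algebraMap_residueField q
  let y := f x
  have hy : y = g (pR x') := by
    change f (pX x') = g (pR x')
    rw [← Scheme.Hom.comp_apply, ← Scheme.Hom.comp_apply, pullback.condition]
  have hu : u (ι₂ z₀) = y := by
    rw [hy, ← hz₀, ← Scheme.Hom.comp_apply, ← hfac, Scheme.Hom.comp_apply]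
  let P : PrimeSpectrum A := PrimeSpectrum.comap (algebraMap A R) Q
  have hyP : y = Y.fromSpecStalk y₀ P := hy.trans (Scheme.Hom.comp_apply _ _ _)
  have hsp : y ⤳ y₀ := by
    have h9 := ((PrimeSpectrum.le_iff_specializes P (closedPoint A)).1 (le_maximalIdeal P.2.ne_top)).map
      (Y.fromSpecStalk y₀).continuous
    rw [hyP]
    exact h9.trans (specializes_of_eq (Y.fromSpecStalk_closedPoint (x := y₀)))
  have hker : RingHom.ker (Cyc.specMap y₀ y hsp) = p := by
    have h1 : Y.fromSpecStalk y₀ (Spec.map (Y.presheaf.stalkSpecializes hsp) (closedPoint (Y.presheaf.stalk y))) =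
        Y.fromSpecStalk y₀ P := by
      rw [← Scheme.Hom.comp_apply, Scheme.SpecMap_stalkSpecializes_fromSpecStalk, Scheme.fromSpecStalk_closedPoint, hyP]
    have h2 := congrArg PrimeSpectrum.asIdeal ((Y.fromSpecStalk y₀).isEmbedding.injective h1)
    refine (Ideal.ext fun c => ?_).trans h2
    rw [RingHom.mem_ker]
    exact (residue_eq_zero_iff _)
  -- the dimension of the branch
  have hdim : ringKrullDim (R ⧸ q) = ringKrullDim (A ⧸ p) :=
    ringKrullDim_quotient_eq GrothLib.Hensel.IsStrictHenselization.etaleStages (isUniversallyCatenary_stalk aY y₀) q p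
  obtain ⟨t, s, a', b', ht, hs, ha', hb', -, heq⟩ := GrothLib.Altitude.dim_locQuot_add_trdeg aY hsp
  have hab : a' = a := by
    have : ringKrullDim (A ⧸ p) = a' := by
      rw [← ringKrullDim_eq_of_ringEquiv (Ideal.quotEquivOfEq hker)]; exact ha'
    have h3 := hdim.trans this
    rw [show ringKrullDim (R ⧸ q) = a from ha] at h3
    exact_mod_cast h3.symm
  obtain ⟨h00, huc⟩ := dim_locQuot_point (k := k) (hsp.map aY.continuous)
  have hb0 : b' = 0 := by
    rw [hb'] at h00
    exact_mod_cast Nat.le_zero.1 (by exact_mod_cast h00)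
  have E1 := heq huc
  -- transcendence degrees
  obtain ⟨n₀, hn₀, hn₀'⟩ := exists_dim_closure aY y₀
  obtain ⟨nx, hnx, hnx'⟩ := exists_dim_closure (f ≫ aY) x
  have e₀ : n₀ = dy := by rw [hdy] at hn₀; exact_mod_cast hn₀.symm
  have ex : nx = dx := by rw [show topologicalKrullDim ↥(closure {x}) = dx from hdx] at hnx; exact_mod_cast hnx.symm
  have es : s = dy := by
    rw [ptTrdeg_eq_trdeg, hs] at hn₀'
    exact (Nat.cast_injective hn₀').trans e₀
  have et : ptTrdeg aY y = t := (ptTrdeg_eq_trdeg aY y).trans ht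
  have eR : ptTrdeg (g ≫ aY) (pR x') = t := by
    rw [← ptTrdeg_congr rfl hz₀, ptTrdeg_preimmersion ι (g ≫ aY) z₀,
      ptTrdeg_congr (show ι ≫ g ≫ aY = ι₂ ≫ u ≫ aY by rw [← Category.assoc, hfac, Category.assoc]) rfl,
      ptTrdeg_comp_integral, ← ptTrdeg_preimmersion u aY, ptTrdeg_congr rfl hu, et]
  -- the point over the residue fields
  let ax := X.fromSpecResidueField x ≫ f
  let m : pullback ax (ι ≫ g) ⟶ pullback f g :=
    pullback.map ax (ι ≫ g) f g (X.fromSpecResidueField x) ι (𝟙 Y) (Category.comp_id _) (Category.comp_id _)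
  haveI : IsPreimmersion m := MorphismProperty.pullbackMap (P := @IsPreimmersion)
    (inferInstance : IsPreimmersion (X.fromSpecResidueField x)) (inferInstance : IsPreimmersion ι) rfl rfl
  obtain ⟨z, hz⟩ : x' ∈ Set.range m := by
    rw [Scheme.Pullback.range_map, X.range_fromSpecResidueField]
    exact ⟨rfl, ⟨z₀, hz₀⟩⟩
  let n : pullback ax (ι ≫ g) ⟶ pullback ax u :=
    pullback.map ax (ι ≫ g) ax u (𝟙 _) ι₂ (𝟙 Y) (by simp) (by rw [Category.comp_id, hfac])
  haveI : IsIntegralHom n := MorphismProperty.pullbackMap (P := @IsIntegralHom)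
    (inferInstance : IsIntegralHom (𝟙 _)) (inferInstance : IsIntegralHom ι₂) (Category.id_comp ax).symm hfac
  haveI : IsPreimmersion (pullback.fst ax u) := MorphismProperty.pullback_fst _ _ inferInstance
  have hm : m ≫ pX ≫ f ≫ aY = n ≫ pullback.fst ax u ≫ X.fromSpecResidueField x ≫ f ≫ aY := by
    simp [m, n, pX, ← Category.assoc]
  have hxx : X.fromSpecResidueField x (pullback.fst ax u (n z)) = x := Scheme.fromSpecResidueField_apply _ _
  have ex' : ptTrdeg (pR ≫ g ≫ aY) x' = dx := by
    rw [ptTrdeg_congr (show pR ≫ g ≫ aY = pX ≫ f ≫ aY by rw [← Category.assoc, ← pullback.condition, Category.assoc]) hz.symm,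
      ptTrdeg_preimmersion m (pX ≫ f ≫ aY) z, ptTrdeg_congr hm rfl, ptTrdeg_comp_integral,
      ← ptTrdeg_preimmersion (X.fromSpecResidueField x) (f ≫ aY) (pullback.fst ax u (n z)) |>.trans
        (ptTrdeg_preimmersion (pullback.fst ax u) (X.fromSpecResidueField x ≫ f ≫ aY) (n z)),
      ptTrdeg_congr rfl hxx, hnx', ex]
  rw [ptTrdeg_comp pR (g ≫ aY) x', eR, hb] at ex'
  have h5 : t + b = dx := by exact_mod_cast ex'
  omega

end GrothLib.DimSH18
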